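import Groth.Agent.AffThick.Basic
import Groth.Agent.LimLib.ClosedApprox
import Mathlib.RingTheory.Noetherian.Nilpotent

/-!
# A scheme with a surjective closed immersion from an affine scheme is affine
-/

set_option autoImplicit false
set_option linter.unusedSectionVars false
set_option backward.isDefEq.respectTransparency.types false

universe u

open AlgebraicGeometry CategoryTheory TopologicalSpace Opposite

namespace Groth.Agent.AffThick

variable {X₀ X₁ X : Scheme.{u}}

lemma surjective_of_surjective_comp (i₁ : X₀ ⟶ X₁) (j : X₁ ⟶ X) [IsClosedImmersion j]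
    [Surjective (i₁ ≫ j)] : Surjective i₁ := by
  constructor
  intro y
  obtain ⟨x, hx⟩ := (i₁ ≫ j).surjective (j y)
  exact ⟨x, j.isClosedEmbedding.injective hx⟩

lemma factor_props {X₀ X₁ X : Scheme.{u}} {i : X₀ ⟶ X} (i₁ : X₀ ⟶ X₁) (j : X₁ ⟶ X)
    [IsClosedImmersion j] [IsClosedImmersion i] [Surjective i] (hfac : i₁ ≫ j = i) :
    IsClosedImmersion i₁ ∧ Surjective i₁ ∧ Surjective j := by
  subst hfac
  exact ⟨IsClosedImmersion.of_comp_isClosedImmersion i₁ j, surjective_of_surjective_comp i₁ j,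
    Surjective.of_comp i₁ j⟩

lemma range_coe {R : Type*} (T : Finset R) : Set.range (fun a : T => (a : R)) = (T : Set R) :=
  Subtype.range_coe

/-- A square-zero thickening of an affine scheme is affine. -/
theorem isAffine_of_sq (i : X₀ ⟶ X) [IsClosedImmersion i] [Surjective i] [IsAffine X₀]
    (hsq : ∀ V : X.affineOpens, ∀ a ∈ i.ker.ideal V, ∀ b ∈ i.ker.ideal V, a * b = 0) :
    IsAffine X := by
  classical
  obtain ⟨T, hT, hTU⟩ := exists_charts i
  choose U hUaff hU using fun a : T => hTU a.1 a.2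
  obtain ⟨c, hc⟩ := (Ideal.mem_span_range_iff_exists_fun (v := fun a : T => (a : Γ(X₀, ⊤)))).mp
    (by rw [range_coe]; exact hT ▸ Submodule.mem_top : (1 : Γ(X₀, ⊤)) ∈ _)
  choose F hF using fun a : T => exists_lift_of_sq i hsq a.1
  choose C hC using fun a : T => exists_lift_of_sq i hsq (c a)
  exact isAffine_of_lifts i hUaff hU c hc F C hF hC

lemma ker_app_factor (i₁ : X₀ ⟶ X₁) (j : X₁ ⟶ X) [IsClosedImmersion i₁] [IsClosedImmersion j]
    (V : X.affineOpens) :
    i₁.ker.ideal ⟨j ⁻¹ᵁ V.1, V.2.preimage j⟩ =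
      ((i₁ ≫ j).ker.ideal V).map (j.app V.1).hom := by
  have h : (i₁ ≫ j).ker.ideal V =
      (i₁.ker.ideal ⟨j ⁻¹ᵁ V.1, V.2.preimage j⟩).comap (j.app V.1).hom := by
    simp only [Scheme.Hom.ker_apply]
    rfl
  rw [h, Ideal.map_comap_of_surjective _ (Scheme.Hom.app_surjective j V.1 V.2)]

/-- A nilpotent thickening of an affine scheme is affine. -/
theorem isAffine_of_pow (m : ℕ) : ∀ {X₀ X : Scheme.{u}} (i : X₀ ⟶ X) [IsClosedImmersion i]
    [Surjective i] [IsAffine X₀], i.ker ^ m = ⊥ → IsAffine X := by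
  induction m with
  | zero =>
    intro X₀ X i _ _ _ h
    refine isAffine_of_sq i fun V a ha b hb => ?_
    have h' : (⊤ : Ideal Γ(X, V)) = ⊥ := by
      have := congr_arg (fun I => Scheme.IdealSheafData.ideal I V) h
      simpa using this
    exact (Ideal.mem_bot).mp (h' ▸ Submodule.mem_top)
  | succ m ih =>
    intro X₀ X i _ _ _ h
    by_cases hm : m ≤ 1
    · refine isAffine_of_sq i fun V a ha b hb => ?_
      have h' : i.ker.ideal V ^ (m + 1) = ⊥ := by
        have := congr_arg (fun I => Scheme.IdealSheafData.ideal I V) h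
        simpa using this
      refine (Ideal.mem_bot).mp (h' ▸ Ideal.pow_le_pow_right (n := 2) (by omega) ?_)
      rw [pow_two]; exact Ideal.mul_mem_mul ha hb
    · let K := i.ker ^ m
      have hK : K ≤ i.ker := fun V => Ideal.pow_le_self (by omega)
      let j := K.subschemeι
      let i₁ := IsClosedImmersion.lift j i (by rw [Scheme.IdealSheafData.ker_subschemeι]; exact hK)
      have hfac : i₁ ≫ j = i := IsClosedImmersion.lift_fac _ _ _
      obtain ⟨_, _, _⟩ := factor_props i₁ j hfac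
      have h₁ : i₁.ker ^ m = ⊥ := by
        refine Scheme.IdealSheafData.ext_of_iSup_eq_top
          (fun V : X.affineOpens => ⟨j ⁻¹ᵁ V.1, V.2.preimage j⟩) ?_ fun V => ?_
        · rw [← Scheme.Hom.preimage_iSup, iSup_affineOpens_eq_top, Scheme.Hom.preimage_top]
        · simp only [Scheme.IdealSheafData.ideal_pow, Scheme.IdealSheafData.ideal_bot, Pi.pow_apply,
            Pi.bot_apply, ker_app_factor, hfac, ← Ideal.map_pow]
          rw [Ideal.map_eq_bot_iff_le_ker]
          exact (Scheme.IdealSheafData.ker_subschemeι_app K V).ge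
      have : IsAffine K.subscheme := ih i₁ h₁
      refine isAffine_of_sq j fun V a ha b hb => ?_
      rw [Scheme.IdealSheafData.ker_subschemeι] at ha hb
      have h' : i.ker.ideal V ^ (m + 1) = ⊥ := by
        have := congr_arg (fun I => Scheme.IdealSheafData.ideal I V) h
        simpa using this
      refine (Ideal.mem_bot).mp (h' ▸ Ideal.pow_le_pow_right (n := m + m) (by omega) ?_)
      rw [pow_add]; exact Ideal.mul_mem_mul ha hb

/-- Local lifts glue modulo an ideal containing their differences. -/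
lemma exists_lift_mod (i₁ : X₀ ⟶ X₁) (j : X₁ ⟶ X) {ι : Type*} (U : ι → X.Opens)
    (hU : ⨆ a, U a = ⊤) (g : Γ(X₀, ⊤)) (s : ∀ a, Γ(X, U a))
    (hs : ∀ a, (i₁.app (j ⁻¹ᵁ U a)).hom ((j.app (U a)).hom (s a)) = res le_top g)
    (hc : ∀ a b, (j.app (U a ⊓ U b)).hom
      (res inf_le_left (s a) - res inf_le_right (s b)) = 0) :
    ∃ S : Γ(X₁, ⊤), (i₁.app ⊤).hom S = g := by
  have hU' : ⨆ a, j ⁻¹ᵁ U a = ⊤ := by
    rw [← Scheme.Hom.preimage_iSup, hU, Scheme.Hom.preimage_top]
  obtain ⟨S, hS⟩ := exists_glue (fun a => j ⁻¹ᵁ U a) hU' (fun a => (j.app (U a)).hom (s a))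
    fun a b => by
      have := hc a b
      rw [map_sub, sub_eq_zero, app_res, app_res] at this
      exact this
  refine ⟨S, eq_of_cover (fun a => i₁ ⁻¹ᵁ (j ⁻¹ᵁ U a)) (fun a => le_top) ?_ _ _ fun a => ?_⟩
  · rw [← Scheme.Hom.preimage_iSup, hU', Scheme.Hom.preimage_top]
  · rw [← hs a, ← hS a, app_res]
    rfl

/-- A scheme receiving a surjective closed immersion from an affine scheme is affine. -/
theorem isAffine_of_surjective (i : X₀ ⟶ X) [IsClosedImmersion i] [Surjective i] [IsAffine X₀] :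
    IsAffine X := by
  classical
  have hhom : IsHomeomorph (i : X₀ → X) :=
    isHomeomorph_iff_isEmbedding_surjective.2 ⟨i.isClosedEmbedding.isEmbedding, i.surjective⟩
  have : CompactSpace X := hhom.homeomorph.compactSpace
  have : QuasiSeparatedSpace X :=
    QuasiSeparatedSpace.of_isOpenEmbedding hhom.homeomorph.symm.isOpenEmbedding
  obtain ⟨T, hT, hTU⟩ := exists_charts i
  choose U hUaff hU using fun a : T => hTU a.1 a.2
  have hspan : Ideal.span (Set.range fun a : T => (a : Γ(X₀, ⊤))) = ⊤ := by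
    rw [range_coe]; exact hT
  have hcov : ⨆ a, U a = ⊤ := iSup_eq_top i hU hspan
  obtain ⟨c, hc⟩ := (Ideal.mem_span_range_iff_exists_fun (v := fun a : T => (a : Γ(X₀, ⊤)))).mp
    (hspan ▸ Submodule.mem_top : (1 : Γ(X₀, ⊤)) ∈ _)
  let g : T ⊕ T → Γ(X₀, ⊤) := Sum.elim (fun a => a.1) c
  choose s hs using fun (p : T ⊕ T) (a : T) =>
    Scheme.Hom.app_surjective i (U a) (hUaff a) (res le_top (g p))
  have hW : ∀ a b, IsAffineOpen (U a ⊓ U b) := by
    intro a b
    obtain ⟨F, hF⟩ := Scheme.Hom.app_surjective i (U a) (hUaff a) (res le_top b.1)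
    rw [← basicOpen_lift i hU b (U a) F hF]
    exact (hUaff a).basicOpen F
  obtain ⟨J, _, _, _, K, hKfg, hKsup⟩ := LimLib.exists_iSup_fg_eq i.ker
  have hmem : ∀ q : (T ⊕ T) × T × T, ∃ k, res inf_le_left (s q.1 q.2.1) -
      res inf_le_right (s q.1 q.2.2) ∈ (K k).ideal ⟨U q.2.1 ⊓ U q.2.2, hW _ _⟩ := by
    rintro ⟨p, a, b⟩
    have hc0 : res inf_le_left (s p a) - res inf_le_right (s p b) ∈
        i.ker.ideal ⟨U a ⊓ U b, hW _ _⟩ := by
      rw [Scheme.Hom.ker_apply]
      show (i.app (U a ⊓ U b)).hom _ = 0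
      simp only [map_sub, app_res, hs, res_res, sub_self]
    rw [← hKsup, Scheme.IdealSheafData.ideal_iSup, iSup_apply,
      Submodule.mem_iSup_of_directed] at hc0
    · exact hc0
    · exact fun k l => (exists_ge_ge k l).imp fun o ho =>
        ⟨K.monotone ho.1 _, K.monotone ho.2 _⟩
  choose k hk using hmem
  obtain ⟨k₀, hk₀⟩ := Finset.exists_le (Finset.univ.image k)
  let N := K k₀
  have hN : N ≤ i.ker := hKsup ▸ le_iSup (fun k => K k) k₀
  let j := N.subschemeι
  let i₁ := IsClosedImmersion.lift j i (by rw [Scheme.IdealSheafData.ker_subschemeι]; exact hN)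
  have hfac : i₁ ≫ j = i := IsClosedImmersion.lift_fac _ _ _
  obtain ⟨_, _, _⟩ := factor_props i₁ j hfac
  have hlift : ∀ p, ∃ S : Γ(N.subscheme, ⊤), (i₁.app ⊤).hom S = g p := by
    intro p
    refine exists_lift_mod i₁ j U hcov (g p) (s p) (fun a => ?_) (fun a b => ?_)
    · have e : ∀ (φ : X₀ ⟶ X) (hφ : φ = i) (x : Γ(X, U a)),
          (i.app (U a)).hom x = res le_top (g p) → (φ.app (U a)).hom x = res le_top (g p) := by
        rintro φ rfl x hx; exact hx
      exact e _ hfac _ (hs p a)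
    · have := K.monotone (hk₀ _ (Finset.mem_image_of_mem k (Finset.mem_univ (p, a, b))))
        ⟨U a ⊓ U b, hW _ _⟩ (hk (p, a, b))
      exact (Scheme.IdealSheafData.ker_subschemeι_app N ⟨U a ⊓ U b, hW _ _⟩).ge this
  choose S hS using hlift
  have : IsAffine N.subscheme := by
    refine isAffine_of_lifts i₁ (U := fun a => j ⁻¹ᵁ U a) (fun a => (hUaff a).preimage j) ?_ c hc
      (fun a => S (Sum.inl a)) (fun a => S (Sum.inr a)) (fun a => hS _) (fun a => hS _)
    intro a
    rw [← Scheme.Hom.comp_preimage, hfac]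
    exact hU a
  -- `N` is nilpotent
  have hnil : ∀ a, IsNilpotent (N.ideal ⟨U a, hUaff a⟩) := by
    intro a
    rw [Ideal.FG.isNilpotent_iff_le_nilradical (hKfg _ _)]
    intro x hx
    have hx' : (i.app (U a)).hom x = 0 := by
      have := hN ⟨U a, hUaff a⟩ hx
      rwa [Scheme.Hom.ker_apply, RingHom.mem_ker] at this
    rw [mem_nilradical, Scheme.isNilpotent_iff_basicOpen_eq_bot_of_isCompact (hUaff a).isCompact]
    refine preimage_inj i ?_
    rw [Scheme.preimage_basicOpen i x, show (i.app (U a)).hom x = 0 from hx',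
      Scheme.basicOpen_zero]
    rfl
  choose m hm using hnil
  have hpow : N ^ (∑ a, m a) = ⊥ := by
    refine Scheme.IdealSheafData.ext_of_iSup_eq_top (fun a => ⟨U a, hUaff a⟩) hcov fun a => ?_
    simp only [Scheme.IdealSheafData.ideal_pow, Scheme.IdealSheafData.ideal_bot, Pi.pow_apply,
      Pi.bot_apply]
    exact pow_eq_zero_of_le (Finset.single_le_sum (fun _ _ => Nat.zero_le _) (Finset.mem_univ a))
      (hm a)
  exact isAffine_of_pow _ j (by rw [Scheme.IdealSheafData.ker_subschemeι]; exact hpow)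

end Groth.Agent.AffThick
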