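import Mathlib.AlgebraicGeometry.Morphisms.ClosedImmersion
import Mathlib.AlgebraicGeometry.Morphisms.QuasiCompact
import Mathlib.AlgebraicGeometry.IdealSheaf.Functorial

/-!
# Lifting sections along thickenings of affine schemes

Elementary proofs (no cohomology): sections lift along square-zero thickenings of affine schemes,
and a scheme thickening an affine scheme is affine as soon as enough sections lift.
-/

set_option autoImplicit false
set_option linter.unusedSectionVars false
set_option backward.isDefEq.respectTransparency.types false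

universe u

open AlgebraicGeometry CategoryTheory TopologicalSpace Opposite

namespace Groth.Agent.AffThick

variable {X₀ X : Scheme.{u}}

/-- Restriction of sections. -/
noncomputable def res {U V : X.Opens} (h : V ≤ U) : Γ(X, U) →+* Γ(X, V) :=
  (X.presheaf.map (homOfLE h).op).hom

lemma res_res {U V W : X.Opens} (h₁ : V ≤ U) (h₂ : W ≤ V) (x : Γ(X, U)) :
    res h₂ (res h₁ x) = res (h₂.trans h₁) x := by
  simp only [res, ← CommRingCat.comp_apply, ← Functor.map_comp]
  rfl

@[simp]
lemma res_self {U : X.Opens} (h : U ≤ U) (x : Γ(X, U)) : res h x = x := by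
  rw [res, show (homOfLE h).op = 𝟙 (op U) from rfl, X.presheaf.map_id]; rfl

lemma preimage_le (i : X₀ ⟶ X) {U V : X.Opens} (h : V ≤ U) : i ⁻¹ᵁ V ≤ i ⁻¹ᵁ U :=
  fun _ hx => h hx

lemma app_res (i : X₀ ⟶ X) {U V : X.Opens} (h : V ≤ U) (x : Γ(X, U)) :
    (i.app V).hom (res h x) = res (preimage_le i h) ((i.app U).hom x) := by
  have := congr_arg (fun φ => φ.hom x) (i.naturality (homOfLE h).op)
  exact this

lemma basicOpen_res {U V : X.Opens} (h : V ≤ U) (x : Γ(X, U)) :
    X.basicOpen (res h x) = V ⊓ X.basicOpen x :=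
  X.basicOpen_res x (homOfLE h).op

lemma preimage_le_iff (i : X₀ ⟶ X) [Surjective i] {U V : X.Opens} :
    i ⁻¹ᵁ U ≤ i ⁻¹ᵁ V ↔ U ≤ V := by
  refine ⟨fun h x hx => ?_, preimage_le i⟩
  obtain ⟨y, rfl⟩ := i.surjective x
  exact h hx

lemma preimage_inj (i : X₀ ⟶ X) [Surjective i] {U V : X.Opens} (h : i ⁻¹ᵁ U = i ⁻¹ᵁ V) : U = V :=
  le_antisymm ((preimage_le_iff i).1 h.le) ((preimage_le_iff i).1 h.ge)

/-- Glue compatible sections. -/
lemma exists_glue {ι : Type*} (U : ι → X.Opens) (hU : ⨆ a, U a = ⊤) (s : ∀ a, Γ(X, U a))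
    (h : ∀ a b, res (inf_le_left : U a ⊓ U b ≤ U a) (s a) =
      res (inf_le_right : U a ⊓ U b ≤ U b) (s b)) :
    ∃ t : Γ(X, ⊤), ∀ a, res (le_top : U a ≤ ⊤) t = s a := by
  obtain ⟨t, ht, -⟩ := X.sheaf.existsUnique_gluing' U ⊤ (fun a => homOfLE le_top) hU.ge s
    (fun a b => h a b)
  exact ⟨t, ht⟩

/-- Sections agreeing locally are equal. -/
lemma eq_of_cover {ι : Type*} {W : X.Opens} (U : ι → X.Opens) (hle : ∀ a, U a ≤ W)
    (hU : W ≤ ⨆ a, U a) (s t : Γ(X, W)) (h : ∀ a, res (hle a) s = res (hle a) t) : s = t :=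
  X.sheaf.eq_of_locally_eq' U W (fun a => homOfLE (hle a)) hU s t h

section Charts

variable (i : X₀ ⟶ X) [IsClosedImmersion i]

/-- Affine opens of `X` whose traces are standard opens of `X₀` cover everything. -/
theorem exists_charts [Surjective i] [IsAffine X₀] :
    ∃ t : Finset Γ(X₀, ⊤), Ideal.span (t : Set Γ(X₀, ⊤)) = ⊤ ∧
      ∀ f ∈ t, ∃ U : X.Opens, IsAffineOpen U ∧ i ⁻¹ᵁ U = X₀.basicOpen f := by
  classical
  have hloc : ∀ x : X₀, ∃ f : Γ(X₀, ⊤), x ∈ X₀.basicOpen f ∧
      ∃ U : X.Opens, IsAffineOpen U ∧ i ⁻¹ᵁ U = X₀.basicOpen f := by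
    intro x
    obtain ⟨V, hV, hxV, -⟩ :=
      Opens.isBasis_iff_nbhd.mp X.isBasis_affineOpens (show i x ∈ (⊤ : X.Opens) from trivial)
    obtain ⟨f, hfV, hxf⟩ := (isAffineOpen_top X₀).exists_basicOpen_le
      (V := i ⁻¹ᵁ V) ⟨x, hxV⟩ (by simp)
    obtain ⟨F, hF⟩ := Scheme.Hom.app_surjective i V hV (res le_top f)
    refine ⟨f, hxf, X.basicOpen F, hV.basicOpen F, ?_⟩
    have h2 : i ⁻¹ᵁ X.basicOpen F = X₀.basicOpen ((i.app V).hom F) := Scheme.preimage_basicOpen i F
    rw [h2, show (i.app V).hom F = res le_top f from hF, basicOpen_res, inf_eq_right]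
    exact hfV
  choose f hxf hU using hloc
  have hspan : Ideal.span (Set.range f) = ⊤ := by
    rw [← (isAffineOpen_top X₀).self_le_iSup_basicOpen_iff]
    exact fun x _ => Opens.mem_iSup.mpr ⟨⟨_, x, rfl⟩, hxf x⟩
  obtain ⟨t, ht, ht'⟩ := (Ideal.span_eq_top_iff_finite _).mp hspan
  refine ⟨t, ht', fun g hg => ?_⟩
  obtain ⟨x, rfl⟩ := ht hg
  exact hU x

variable {ι : Type*} {U : ι → X.Opens} {f : ι → Γ(X₀, ⊤)}
  (hU : ∀ a, i ⁻¹ᵁ U a = X₀.basicOpen (f a))

include hU in
/-- A lift of `f a` cuts out `U a` inside any open. -/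
lemma basicOpen_lift [Surjective i] (a : ι) (W : X.Opens) (F : Γ(X, W))
    (hF : (i.app W).hom F = res le_top (f a)) : X.basicOpen F = W ⊓ U a := by
  refine preimage_inj i ?_
  rw [Scheme.preimage_basicOpen i F, show (i.app W).hom F = res le_top (f a) from hF,
    basicOpen_res, ← hU a]
  rfl

include hU in
lemma iSup_eq_top [Surjective i] [IsAffine X₀]
    (hspan : Ideal.span (Set.range f) = ⊤) : ⨆ a, U a = ⊤ := by
  refine top_le_iff.mp ((preimage_le_iff i).1 ?_)
  intro x _
  obtain ⟨⟨g, a, rfl⟩, hg⟩ := Opens.mem_iSup.mp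
    (((isAffineOpen_top X₀).self_le_iSup_basicOpen_iff).2 hspan (show x ∈ (⊤ : X₀.Opens) from trivial))
  exact Opens.mem_iSup.mpr ⟨a, (hU a).ge hg⟩

/-- If enough sections lift, a scheme thickening an affine scheme is affine. -/
theorem isAffine_of_lifts [Surjective i] [IsAffine X₀] [Fintype ι]
    (hUaff : ∀ a, IsAffineOpen (U a)) (hU : ∀ a, i ⁻¹ᵁ U a = X₀.basicOpen (f a))
    (c : ι → Γ(X₀, ⊤)) (hsum : ∑ a, c a * f a = 1)
    (F C : ι → Γ(X, ⊤)) (hF : ∀ a, (i.app ⊤).hom (F a) = f a)
    (hC : ∀ a, (i.app ⊤).hom (C a) = c a) : IsAffine X := by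
  have hb : ∀ a, X.basicOpen (F a) = U a := by
    intro a
    refine preimage_inj i ?_
    rw [Scheme.preimage_basicOpen i (F a), show (i.app ⊤).hom (F a) = f a from hF a, hU a]
    rfl
  have hu : IsUnit (∑ a, C a * F a) := by
    have h1 : (i.app ⊤).hom (∑ a, C a * F a) = 1 := by
      simp only [map_sum, map_mul, hF, hC]
      exact hsum
    have h2 : X.basicOpen (∑ a, C a * F a) = ⊤ := by
      refine preimage_inj i ?_
      rw [Scheme.preimage_basicOpen i, show (i.app ⊤).hom (∑ a, C a * F a) = 1 from h1]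
      exact X₀.basicOpen_of_isUnit isUnit_one
    exact X.toLocallyRingedSpace.toRingedSpace.isUnit_of_isUnit_germ ⊤ _ fun x hx =>
      (X.mem_basicOpen _ x hx).1 (h2.ge trivial)
  refine isAffine_of_isAffineOpen_basicOpen (Set.range F) ?_ ?_
  · refine Ideal.eq_top_of_isUnit_mem _ ?_ hu
    exact sum_mem fun a _ => Ideal.mul_mem_left _ _ (Ideal.subset_span ⟨a, rfl⟩)
  · rintro _ ⟨a, rfl⟩
    rw [hb a]; exact hUaff a

end Charts

section SquareZero

/-- Sections in the kernel multiply to zero, for a square-zero thickening. -/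
lemma mul_eq_zero_of_sq (i : X₀ ⟶ X) [IsClosedImmersion i]
    (hsq : ∀ V : X.affineOpens, ∀ a ∈ i.ker.ideal V, ∀ b ∈ i.ker.ideal V, a * b = 0)
    {W : X.Opens} {a b : Γ(X, W)} (ha : (i.app W).hom a = 0) (hb : (i.app W).hom b = 0) :
    a * b = 0 := by
  refine eq_of_cover (fun V : {V : X.affineOpens // V.1 ≤ W} => V.1.1) (fun V => V.2) ?_ _ _ ?_
  · intro x hx
    obtain ⟨V, hV, hxV, hVW⟩ := Opens.isBasis_iff_nbhd.mp X.isBasis_affineOpens hx
    exact Opens.mem_iSup.mpr ⟨⟨⟨V, hV⟩, hVW⟩, hxV⟩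
  · intro V
    rw [map_mul, map_zero]
    refine hsq V.1 _ ?_ _ ?_ <;>
      (rw [Scheme.Hom.ker_apply, RingHom.mem_ker, app_res]; simp [ha, hb])

/-- Multiples of an element of a square-zero kernel depend only on the image of the factor. -/
lemma mul_eq_of_app_eq (i : X₀ ⟶ X) [IsClosedImmersion i]
    (hsq : ∀ V : X.affineOpens, ∀ a ∈ i.ker.ideal V, ∀ b ∈ i.ker.ideal V, a * b = 0)
    {W : X.Opens} {a a' e : Γ(X, W)} (h : (i.app W).hom a = (i.app W).hom a')
    (he : (i.app W).hom e = 0) : a * e = a' * e := by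
  refine sub_eq_zero.mp ?_
  rw [← sub_mul]
  exact mul_eq_zero_of_sq i hsq (by rw [map_sub, h, sub_self]) he

/-- Every section lifts along a square-zero thickening of an affine scheme. -/
theorem exists_lift_of_sq (i : X₀ ⟶ X) [IsClosedImmersion i] [Surjective i] [IsAffine X₀]
    (hsq : ∀ V : X.affineOpens, ∀ a ∈ i.ker.ideal V, ∀ b ∈ i.ker.ideal V, a * b = 0)
    (s₀ : Γ(X₀, ⊤)) : ∃ s : Γ(X, ⊤), (i.app ⊤).hom s = s₀ := by
  classical
  obtain ⟨T, hT, hTU⟩ := exists_charts i
  choose U hUaff hU' using fun a : T => hTU a.1 a.2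
  let f : T → Γ(X₀, ⊤) := fun a => a.1
  have hU : ∀ a, i ⁻¹ᵁ U a = X₀.basicOpen (f a) := hU'
  have hspan : Ideal.span (Set.range f) = ⊤ := by
    rw [show Set.range f = (T : Set Γ(X₀, ⊤)) from Subtype.range_coe]; exact hT
  have hcov : ⨆ a, U a = ⊤ := iSup_eq_top i hU hspan
  have hsurj : ∀ a (g : Γ(X₀, ⊤)), ∃ G : Γ(X, U a), (i.app (U a)).hom G = res le_top g :=
    fun a g => Scheme.Hom.app_surjective i (U a) (hUaff a) _
  choose s hs using fun a => hsurj a s₀
  -- `F j k` lifts `f j` on `U k`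
  choose F hF using fun j k => hsurj k (f j)
  have hFb : ∀ j k, X.basicOpen (F j k) = U k ⊓ U j := fun j k =>
    basicOpen_lift i hU j (U k) (F j k) (hF j k)
  -- the cocycle
  let c : ∀ j k, Γ(X, U k ⊓ U j) := fun j k =>
    res inf_le_right (s j) - res inf_le_left (s k)
  have hc : ∀ j k, (i.app (U k ⊓ U j)).hom (c j k) = 0 := by
    intro j k
    simp only [c, map_sub, app_res, hs, res_res, sub_self]
  have hext : ∀ j k, ∃ (n : ℕ) (e : Γ(X, U k)), (i.app (U k)).hom e = 0 ∧
      res inf_le_left e = res inf_le_left (F j k) ^ n * c j k := by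
    intro j k
    have hle : X.basicOpen (F j k) ≤ U k := X.basicOpen_le _
    let c' : Γ(X, X.basicOpen (F j k)) := res (hFb j k).le (c j k)
    have hc' : c' ∈ i.ker.ideal (X.affineBasicOpen (U := ⟨U k, hUaff k⟩) (F j k)) := by
      rw [Scheme.Hom.ker_apply]
      show (i.app (X.basicOpen (F j k))).hom c' = 0
      rw [app_res, hc, map_zero]
    rw [← i.ker.map_ideal_basicOpen] at hc'
    have := (hUaff k).isLocalization_basicOpen (F j k)
    obtain ⟨⟨⟨e, he⟩, ⟨_, n, rfl⟩⟩, hen⟩ :=
      (IsLocalization.mem_map_algebraMap_iff (.powers (F j k))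
        Γ(X, X.basicOpen (F j k))).mp hc'
    refine ⟨n, e, ?_, ?_⟩
    · rwa [Scheme.Hom.ker_apply, RingHom.mem_ker] at he
    · have e2 : c' * res hle (F j k) ^ n = res hle e := by rw [← map_pow]; exact hen
      have := congr_arg (res (hFb j k).ge) e2
      simp only [c', map_mul, map_pow, res_res, res_self] at this
      rw [← this, mul_comm]
  choose n e₀ he₀ hres₀ using hext
  let N := ∑ j, ∑ k, n j k
  have hnN : ∀ j k, n j k ≤ N := fun j k =>
    (Finset.single_le_sum (f := fun k => n j k) (fun _ _ => Nat.zero_le _) (Finset.mem_univ k)).trans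
      (Finset.single_le_sum (f := fun j => ∑ k, n j k) (fun _ _ => Nat.zero_le _) (Finset.mem_univ j))
  let e₁ : ∀ j k, Γ(X, U k) := fun j k => F j k ^ (N - n j k) * e₀ j k
  have he₁ : ∀ j k, (i.app (U k)).hom (e₁ j k) = 0 := fun j k => by simp [e₁, he₀]
  have hres₁ : ∀ j k, res (inf_le_left : U k ⊓ U j ≤ U k) (e₁ j k) =
      res inf_le_left (F j k) ^ N * c j k := by
    intro j k
    simp only [e₁, map_mul, map_pow, hres₀, ← mul_assoc, ← pow_add,
      Nat.sub_add_cancel (hnN j k)]
  -- the defect of the cocycle condition is killed by a power of `f j`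
  let d : ∀ j k l, Γ(X, U k ⊓ U l) := fun j k l =>
    res inf_le_left (e₁ j k) - res inf_le_right (e₁ j l)
      - res inf_le_left (F j k) ^ N * (res inf_le_right (s l) - res inf_le_left (s k))
  have hkill : ∀ j k l, ∃ m : ℕ, res inf_le_left (F j k) ^ m * d j k l = 0 := by
    intro j k l
    let W := U k ⊓ U l
    let G : Γ(X, W) := res inf_le_left (F j k)
    have hWaff : IsAffineOpen W := by
      rw [show W = X.basicOpen (F l k) from (hFb l k).symm]
      exact (hUaff k).basicOpen _
    have hG : X.basicOpen G = W ⊓ U j := by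
      rw [basicOpen_res, hFb]
      exact le_antisymm (le_inf inf_le_left (inf_le_right.trans inf_le_right))
        (le_inf inf_le_left (le_inf (inf_le_left.trans inf_le_left) inf_le_right))
    have h0 : res (X.basicOpen_le G) (d j k l) = 0 := by
      have hk : X.basicOpen G ≤ U k ⊓ U j :=
        hG.le.trans (le_inf (inf_le_left.trans inf_le_left) inf_le_right)
      have hl : X.basicOpen G ≤ U l ⊓ U j :=
        hG.le.trans (le_inf (inf_le_left.trans inf_le_right) inf_le_right)
      have ek : res (hk.trans inf_le_left) (e₁ j k) =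
          res (hk.trans inf_le_left) (F j k) ^ N *
            (res (hk.trans inf_le_right) (s j) - res (hk.trans inf_le_left) (s k)) := by
        rw [← res_res inf_le_left hk, hres₁]
        simp only [c, map_mul, map_pow, map_sub, res_res]
      have el : res (hl.trans inf_le_left) (e₁ j l) =
          res (hk.trans inf_le_left) (F j k) ^ N *
            (res (hk.trans inf_le_right) (s j) - res (hl.trans inf_le_left) (s l)) := by
        rw [← res_res inf_le_left hl, hres₁]
        simp only [c, map_mul, map_pow, map_sub, res_res]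
        refine mul_eq_of_app_eq i hsq ?_ ?_
        · simp only [map_pow, app_res, hF, res_res]
        · simp only [map_sub, app_res, hs, res_res, sub_self]
      simp only [d, map_sub, map_mul, map_pow, res_res]
      rw [ek, el]; ring
    have := hWaff.isLocalization_basicOpen G
    obtain ⟨⟨_, m, rfl⟩, hm⟩ := (IsLocalization.map_eq_zero_iff (.powers G)
      Γ(X, X.basicOpen G) (d j k l)).mp h0
    exact ⟨m, hm⟩
  choose m hm using hkill
  let M := ∑ j, ∑ k, ∑ l, m j k l
  have hmM : ∀ j k l, m j k l ≤ M := fun j k l =>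
    (Finset.single_le_sum (f := fun l => m j k l) (fun _ _ => Nat.zero_le _)
      (Finset.mem_univ l)).trans
    ((Finset.single_le_sum (f := fun k => ∑ l, m j k l) (fun _ _ => Nat.zero_le _)
      (Finset.mem_univ k)).trans
    (Finset.single_le_sum (f := fun j => ∑ k, ∑ l, m j k l) (fun _ _ => Nat.zero_le _)
      (Finset.mem_univ j)))
  let e : ∀ j k, Γ(X, U k) := fun j k => F j k ^ M * e₁ j k
  have he : ∀ j k, (i.app (U k)).hom (e j k) = 0 := fun j k => by simp [e, he₁]
  have hdiff : ∀ j k l, res inf_le_left (e j k) - res inf_le_right (e j l) =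
      res (inf_le_left : U k ⊓ U l ≤ U k) (F j k) ^ (M + N) *
        (res inf_le_right (s l) - res inf_le_left (s k)) := by
    intro j k l
    have h1 : res (inf_le_right : U k ⊓ U l ≤ U l) (e j l) =
        res inf_le_left (F j k) ^ M * res inf_le_right (e₁ j l) := by
      simp only [e, map_mul, map_pow]
      refine mul_eq_of_app_eq i hsq ?_ ?_
      · simp only [map_pow, app_res, hF, res_res]
      · simp [app_res, he₁]
    have h2 : res inf_le_left (F j k) ^ M * d j k l = 0 := by
      rw [← Nat.sub_add_cancel (hmM j k l), pow_add, mul_assoc, hm, mul_zero]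
    refine sub_eq_zero.mp ?_
    rw [← h2, h1, pow_add]
    simp only [e, map_mul, map_pow, d]
    ring
  -- partition of unity
  have hspan' : Ideal.span (Set.range fun a => f a ^ (M + N)) = ⊤ := by
    have := Ideal.span_pow_eq_top _ hspan (M + N)
    rwa [← Set.range_comp] at this
  obtain ⟨a, ha⟩ := (Ideal.mem_span_range_iff_exists_fun).mp
    (hspan' ▸ Submodule.mem_top : (1 : Γ(X₀, ⊤)) ∈ _)
  choose A hA using fun j k => hsurj k (a j)
  let t : ∀ k, Γ(X, U k) := fun k => s k + ∑ j, A j k * e j k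
  have ht : ∀ k, (i.app (U k)).hom (t k) = res le_top s₀ := fun k => by
    simp [t, he, hs]
  have hcompat : ∀ k l, res inf_le_left (t k) = res (inf_le_right : U k ⊓ U l ≤ U l) (t l) := by
    intro k l
    let W := U k ⊓ U l
    let rA : T → Γ(X, W) := fun j => res inf_le_left (A j k)
    let rF : T → Γ(X, W) := fun j => res inf_le_left (F j k)
    let δ : Γ(X, W) := res inf_le_right (s l) - res inf_le_left (s k)
    have hone : (∑ j, rA j * rF j ^ (M + N)) * δ = 1 * δ := by
      refine mul_eq_of_app_eq i hsq ?_ ?_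
      · simp only [rA, rF, map_sum, map_mul, map_pow, app_res, hA, hF, res_res, map_one]
        simp only [← map_pow, ← map_mul, ← map_sum, ha, map_one]
      · simp only [δ, map_sub, app_res, hs, res_res, sub_self]
    have hl : ∀ j, res (inf_le_right : W ≤ U l) (A j l * e j l) =
        rA j * res inf_le_right (e j l) := by
      intro j
      rw [map_mul]
      refine mul_eq_of_app_eq i hsq ?_ ?_
      · simp only [rA, app_res, hA, res_res]
      · simp [app_res, he]
    refine sub_eq_zero.mp ?_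
    simp only [t, map_add, map_sum, hl]
    simp only [map_mul]
    rw [add_sub_add_comm, ← Finset.sum_sub_distrib]
    simp only [← mul_sub, rA, hdiff]
    simp only [← mul_assoc, ← Finset.sum_mul]
    rw [show (∑ j, res inf_le_left (A j k) * res inf_le_left (F j k) ^ (M + N)) * δ = δ from
      hone.trans (one_mul δ)]
    simp [δ]
  obtain ⟨S, hS⟩ := exists_glue U hcov t hcompat
  refine ⟨S, eq_of_cover (fun k => i ⁻¹ᵁ U k) (fun k => le_top) ?_ _ _ fun k => ?_⟩
  · intro x _
    obtain ⟨k, hk⟩ := Opens.mem_iSup.mp (hcov.ge (show i x ∈ (⊤ : X.Opens) from trivial))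
    exact Opens.mem_iSup.mpr ⟨k, hk⟩
  · rw [← ht k, ← hS k, app_res]
    rfl

end SquareZero

end Groth.Agent.AffThick
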