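import Groth.Agent.AffThick.Cover
import Mathlib.AlgebraicGeometry.PullbackCarrier
import Mathlib.RingTheory.Ideal.Operations

/-!
# An affine open containing finitely many points, built from closed pieces
-/

set_option autoImplicit false
set_option linter.unusedSectionVars false
set_option backward.isDefEq.respectTransparency.types false

universe u

open AlgebraicGeometry CategoryTheory TopologicalSpace Opposite CategoryTheory.Limits

namespace Groth.Agent.AffThick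

lemma exists_mem_forall_not_mem {R : Type*} [CommRing R] {I : Ideal R} (P : Finset (Ideal R))
    (hP : ∀ p ∈ P, p.IsPrime) (h : ∀ p ∈ P, ¬ I ≤ p) : ∃ e ∈ I, ∀ p ∈ P, e ∉ p := by
  by_contra hcon
  push Not at hcon
  have hsub : (I : Set R) ⊆ ⋃ p ∈ (↑P : Set (Ideal R)), ((fun q => q) p : Ideal R) := fun e he => by
    obtain ⟨p, hp, hep⟩ := hcon e he
    exact Set.mem_iUnion₂.mpr ⟨p, hp, hep⟩
  obtain ⟨p, hp, hIp⟩ :=
    (Ideal.subset_union_prime ⊥ ⊥ (fun p hp _ _ => hP p hp)).mp hsub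
  exact h p hp hIp

/-- Prime avoidance for cosets. -/
lemma exists_add_forall_not_mem {R : Type*} [CommRing R] {I : Ideal R} (P : Finset (Ideal R))
    (hP : ∀ p ∈ P, p.IsPrime) (t : R) (h : ∀ p ∈ P, I ≤ p → t ∉ p) :
    ∃ e ∈ I, ∀ p ∈ P, t + e ∉ p := by
  classical
  let Pm : Finset (Ideal R) := P.filter fun p => ∀ q ∈ P, p ≤ q → q ≤ p
  let Pin : Finset (Ideal R) := Pm.filter fun p => t ∈ p
  let Pout : Finset (Ideal R) := Pm.filter fun p => t ∉ p
  let J : Ideal R := I * ∏ p ∈ Pout, p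
  have hJ : ∀ p ∈ Pin, ¬ J ≤ p := by
    intro p hp hJp
    obtain ⟨hpm, htp⟩ := Finset.mem_filter.mp hp
    obtain ⟨hpP, -⟩ := Finset.mem_filter.mp hpm
    rcases ((hP p hpP).mul_le).mp hJp with h1 | h1
    · exact h p hpP h1 htp
    · obtain ⟨q, hq, hqp⟩ := ((hP p hpP).prod_le).mp h1
      obtain ⟨hqm, htq⟩ := Finset.mem_filter.mp hq
      obtain ⟨-, hqmax⟩ := Finset.mem_filter.mp hqm
      exact htq (hqmax p hpP hqp htp)
  obtain ⟨e, he, hep⟩ := exists_mem_forall_not_mem Pin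
    (fun p hp => hP p (Finset.mem_filter.mp (Finset.mem_filter.mp hp).1).1) hJ
  refine ⟨e, Ideal.mul_le_left he, fun p hp hmem => ?_⟩
  obtain ⟨q, hpq, hq⟩ := P.exists_le_maximal hp
  have hqm : q ∈ Pm := Finset.mem_filter.mpr ⟨hq.1, fun r hr hqr => hq.2 hr hqr⟩
  have hte : t + e ∈ q := hpq hmem
  by_cases htq : t ∈ q
  · exact hep q (Finset.mem_filter.mpr ⟨hqm, htq⟩) (by simpa using q.sub_mem hte htq)
  · have : e ∈ q := (Ideal.mul_le_right.trans
      (Ideal.prod_le_inf.trans (Finset.inf_le (Finset.mem_filter.mpr ⟨hqm, htq⟩)))) he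
    exact htq (by simpa using q.sub_mem hte this)

variable {X Y : Scheme.{u}}

lemma not_mem_primeIdealOf_iff {W : Y.Opens} (hW : IsAffineOpen W) (y : W) (s : Γ(Y, W)) :
    s ∉ (hW.primeIdealOf y).asIdeal ↔ (y : Y) ∈ Y.basicOpen s := by
  conv_rhs => rw [← hW.fromSpec_primeIdealOf y]
  show _ ↔ hW.primeIdealOf y ∈ hW.fromSpec ⁻¹ᵁ Y.basicOpen s
  rw [hW.fromSpec_preimage_basicOpen]
  rfl

/-- A standard open of an affine open avoiding a closed set and containing given points. -/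
lemma exists_basicOpen_avoid {W : Y.Opens} (hW : IsAffineOpen W) {C : Set Y} (hC : IsClosed C)
    {F : Set Y} (hF : F.Finite) (hFW : F ⊆ W) (hFC : ∀ y ∈ F, y ∉ C) :
    ∃ s : Γ(Y, W), F ⊆ Y.basicOpen s ∧ ∀ y ∈ Y.basicOpen s, y ∉ C := by
  classical
  let V : Y.Opens := ⟨Cᶜ, hC.isOpen_compl⟩
  let J : Ideal Γ(Y, W) :=
    { carrier := {p | Y.basicOpen p ≤ V}
      add_mem' := fun {p q} hp hq => (Y.basicOpen_add_le p q).trans (sup_le hp hq)
      zero_mem' := by simp [Scheme.basicOpen_zero]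
      smul_mem' := fun c p hp => by
        show Y.basicOpen (c * p) ≤ V
        rw [Scheme.basicOpen_mul]
        exact inf_le_right.trans hp }
  let P : Finset (Ideal Γ(Y, W)) := hF.toFinset.attach.image fun y =>
    (hW.primeIdealOf ⟨y.1, hFW (hF.mem_toFinset.mp y.2)⟩).asIdeal
  have hPp : ∀ p ∈ P, p.IsPrime := fun p hp => by
    obtain ⟨y, -, rfl⟩ := Finset.mem_image.mp hp
    infer_instance
  obtain ⟨s, hs, hsP⟩ := exists_mem_forall_not_mem (I := J) P hPp fun p hp hJp => by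
    obtain ⟨⟨y, hy⟩, -, rfl⟩ := Finset.mem_image.mp hp
    have hy' := hF.mem_toFinset.mp hy
    obtain ⟨f, hf, hyf⟩ := hW.exists_basicOpen_le (V := V) ⟨y, hFC y hy'⟩ (hFW hy')
    exact (not_mem_primeIdealOf_iff hW ⟨y, hFW hy'⟩ f).2 hyf (hJp hf)
  refine ⟨s, fun y hy => ?_, fun y hy => hs hy⟩
  exact (not_mem_primeIdealOf_iff hW ⟨y, hFW hy⟩ s).1
    (hsP _ (Finset.mem_image.mpr ⟨⟨y, hF.mem_toFinset.mpr hy⟩, Finset.mem_attach _ _, rfl⟩))

/-- The key step: two closed pieces. -/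
theorem exists_affine_of_two {Z₁ Z₂ : Scheme.{u}} (i₁ : Z₁ ⟶ X) (i₂ : Z₂ ⟶ X)
    [IsClosedImmersion i₁] [IsClosedImmersion i₂]
    (hcov : ∀ x : X, x ∈ Set.range i₁ ∨ x ∈ Set.range i₂)
    {W₁ : Z₁.Opens} (hW₁ : IsAffineOpen W₁) {W₂ : Z₂.Opens} (hW₂ : IsAffineOpen W₂)
    {T : Set X} (hT : T.Finite) (hT₁ : i₁ ⁻¹' T ⊆ W₁) (hT₂ : i₂ ⁻¹' T ⊆ W₂) :
    ∃ U : X.Opens, IsAffineOpen U ∧ T ⊆ U := by
  classical
  have hF₁ : (i₁ ⁻¹' T).Finite := hT.preimage i₁.isClosedEmbedding.injective.injOn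
  have hF₂ : (i₂ ⁻¹' T).Finite := hT.preimage i₂.isClosedEmbedding.injective.injOn
  -- shrink the second piece
  obtain ⟨s₂, hs₂T, hs₂C⟩ := exists_basicOpen_avoid hW₂
    (C := i₂ ⁻¹' (i₁ '' (W₁ : Set Z₁)ᶜ))
    ((i₁.isClosedEmbedding.isClosedMap _ W₁.isOpen.isClosed_compl).preimage i₂.continuous)
    hF₂ hT₂ (by
      rintro y hy ⟨z, hz, hzy⟩
      exact hz (hT₁ (show i₁ z ∈ T by rw [hzy]; exact hy)))
  let V₂ : Z₂.Opens := Z₂.basicOpen s₂
  have hV₂ : IsAffineOpen V₂ := hW₂.basicOpen s₂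
  -- shrink the first piece
  obtain ⟨s₁, hs₁T, hs₁C⟩ := exists_basicOpen_avoid hW₁
    (C := i₁ ⁻¹' (i₂ '' (V₂ : Set Z₂)ᶜ))
    ((i₂.isClosedEmbedding.isClosedMap _ V₂.isOpen.isClosed_compl).preimage i₁.continuous)
    hF₁ hT₁ (by
      rintro y hy ⟨z, hz, hzy⟩
      exact hz (hs₂T (show i₂ z ∈ T by rw [hzy]; exact hy)))
  let V₁ : Z₁.Opens := Z₁.basicOpen s₁
  have hV₁ : IsAffineOpen V₁ := hW₁.basicOpen s₁
  -- the common trace
  let φ : V₂.toScheme ⟶ X := V₂.ι ≫ i₂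
  let a : pullback φ i₁ ⟶ V₂.toScheme := pullback.fst φ i₁
  let b : pullback φ i₁ ⟶ Z₁ := pullback.snd φ i₁
  have : IsClosedImmersion a := inferInstance
  have : IsAffine V₂.toScheme := hV₂
  have : IsAffine (pullback φ i₁) := isAffine_of_isAffineHom a
  have hcond : ∀ p, i₂ ((V₂.ι : V₂.toScheme ⟶ Z₂) (a p)) = i₁ (b p) := fun p => by
    have := congr_arg (fun f : pullback φ i₁ ⟶ X => f p) (pullback.condition (f := φ) (g := i₁))
    exact this
  have hbW : b ⁻¹ᵁ W₁ = ⊤ := by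
    refine top_le_iff.mp fun p _ => ?_
    by_contra hp
    exact hs₂C _ (a p).2 ⟨b p, hp, (hcond p).symm⟩
  let r : Γ(pullback φ i₁, ⊤) := res hbW.ge ((b.app W₁).hom s₁)
  have hr : (pullback φ i₁).basicOpen r = b ⁻¹ᵁ V₁ := by
    rw [basicOpen_res, top_inf_eq, ← Scheme.preimage_basicOpen]
  obtain ⟨t₀, ht₀⟩ := Scheme.Hom.app_surjective a ⊤ (isAffineOpen_top _) r
  have ht₀' : a ⁻¹ᵁ V₂.toScheme.basicOpen t₀ = b ⁻¹ᵁ V₁ := by
    rw [Scheme.preimage_basicOpen_top, ← hr]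
    exact congr_arg _ ht₀
  -- adjust the lift off the trace
  have hTV : ∀ y ∈ i₂ ⁻¹' T, y ∈ V₂ := fun y hy => hs₂T hy
  let P : Finset (Ideal Γ(V₂.toScheme, ⊤)) := hF₂.toFinset.attach.image fun y =>
    ((isAffineOpen_top V₂.toScheme).primeIdealOf
      ⟨⟨y.1, hTV _ (hF₂.mem_toFinset.mp y.2)⟩, trivial⟩).asIdeal
  have hPp : ∀ p ∈ P, p.IsPrime := fun p hp => by
    obtain ⟨y, -, rfl⟩ := Finset.mem_image.mp hp
    infer_instance
  obtain ⟨e, he, hte⟩ := exists_add_forall_not_mem (I := RingHom.ker a.appTop.hom) P hPp t₀ (by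
    intro p hp hker
    obtain ⟨⟨y, hy⟩, -, rfl⟩ := Finset.mem_image.mp hp
    have hy' : y ∈ i₂ ⁻¹' T := hF₂.mem_toFinset.mp hy
    let v : V₂.toScheme := ⟨y, hTV _ hy'⟩
    have hv : v ∈ Set.range a := by
      by_contra hv
      obtain ⟨f, hf, hvf⟩ := (isAffineOpen_top V₂.toScheme).exists_basicOpen_le
        (V := ⟨(Set.range a)ᶜ, a.isClosedEmbedding.isClosed_range.isOpen_compl⟩) ⟨v, hv⟩ (by trivial)
      have hnil : IsNilpotent (a.appTop.hom f) := by
        rw [Scheme.isNilpotent_iff_basicOpen_eq_bot, ← Scheme.preimage_basicOpen_top]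
        exact le_bot_iff.mp fun p hp => (hf hp) ⟨p, rfl⟩
      obtain ⟨n, hn⟩ := hnil
      have : f ^ n ∈ RingHom.ker a.appTop.hom := by rw [RingHom.mem_ker, map_pow, hn]
      exact (not_mem_primeIdealOf_iff (isAffineOpen_top V₂.toScheme) ⟨v, trivial⟩ f).2 hvf
        (Ideal.IsPrime.mem_of_pow_mem inferInstance _ (hker this))
    obtain ⟨q, hq⟩ := hv
    refine (not_mem_primeIdealOf_iff (isAffineOpen_top V₂.toScheme) ⟨v, trivial⟩ t₀).2 ?_
    have hbq : b q ∈ V₁ := hs₁T (by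
      show i₁ (b q) ∈ T
      rw [← hcond q, hq]; exact hy')
    have := ht₀'.ge (show q ∈ b ⁻¹ᵁ V₁ from hbq)
    show v ∈ _
    rw [← hq]; exact this)
  let t := t₀ + e
  have ht : a ⁻¹ᵁ V₂.toScheme.basicOpen t = b ⁻¹ᵁ V₁ := by
    rw [← ht₀', Scheme.preimage_basicOpen_top, Scheme.preimage_basicOpen_top]
    congr 1
    simp only [t, map_add, show a.appTop.hom e = 0 from he, add_zero]
  let V₂' : Z₂.Opens := V₂.ι ''ᵁ V₂.toScheme.basicOpen t
  have hV₂' : IsAffineOpen V₂' :=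
    ((isAffineOpen_top _).basicOpen t).image_of_isOpenImmersion V₂.ι
  have hTV₂' : ∀ y ∈ i₂ ⁻¹' T, y ∈ V₂' := fun y hy =>
    ⟨⟨y, hTV _ hy⟩, (not_mem_primeIdealOf_iff (isAffineOpen_top V₂.toScheme) ⟨⟨y, hTV _ hy⟩, trivial⟩ t).1
      (hte _ (Finset.mem_image.mpr ⟨⟨y, hF₂.mem_toFinset.mpr hy⟩, Finset.mem_attach _ _, rfl⟩)),
      rfl⟩
  -- the open set
  let U : X.Opens := ⟨(i₁ '' (V₁ : Set Z₁)ᶜ ∪ i₂ '' (V₂' : Set Z₂)ᶜ)ᶜ,
    ((i₁.isClosedEmbedding.isClosedMap _ V₁.isOpen.isClosed_compl).union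
      (i₂.isClosedEmbedding.isClosedMap _ V₂'.isOpen.isClosed_compl)).isOpen_compl⟩
  have hpt : ∀ z y, i₂ y = i₁ z → y ∈ V₂ →
      ∃ q, ((V₂.ι : V₂.toScheme ⟶ Z₂) (a q)) = y ∧ b q = z := by
    intro z y h hy
    obtain ⟨q, h₁, h₂⟩ :=
      Scheme.Pullback.exists_preimage_pullback (f := φ) (g := i₁) ⟨y, hy⟩ z h
    exact ⟨q, congr_arg Subtype.val h₁, h₂⟩
  have hU₁ : i₁ ⁻¹ᵁ U = V₁ := by
    ext z
    refine ⟨fun hz => by_contra fun h => hz (.inl ⟨z, h, rfl⟩), fun hz => ?_⟩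
    rintro (⟨z', hz', e'⟩ | ⟨y, hy, e'⟩)
    · exact hz' (i₁.isClosedEmbedding.injective e' ▸ hz)
    · have hyV : y ∈ V₂ := by_contra fun h => hs₁C z hz ⟨y, h, e'⟩
      obtain ⟨q, hq₁, hq₂⟩ := hpt z y e' hyV
      refine hy ⟨a q, ?_, hq₁⟩
      exact ht.ge (show b q ∈ V₁ by rw [hq₂]; exact hz)
  have hU₂ : i₂ ⁻¹ᵁ U = V₂' := by
    ext y
    refine ⟨fun hy => by_contra fun h => hy (.inr ⟨y, h, rfl⟩), fun hy => ?_⟩
    rintro (⟨z, hz, e'⟩ | ⟨y', hy', e'⟩)
    · obtain ⟨v, hv, rfl⟩ := hy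
      obtain ⟨q, hq₁, hq₂⟩ := hpt z _ e'.symm v.2
      have hqv : a q = v := Subtype.ext hq₁
      exact hz (hq₂ ▸ ht.le (show a q ∈ _ by rw [hqv]; exact hv))
    · exact hy' (i₂.isClosedEmbedding.injective e' ▸ hy)
  have hAff₁ : IsAffine (i₁ ⁻¹ᵁ U : Z₁.Opens).toScheme := hU₁ ▸ hV₁
  have hAff₂ : IsAffine (i₂ ⁻¹ᵁ U : Z₂.Opens).toScheme := hU₂ ▸ hV₂'
  have : IsClosedImmersion (i₁ ∣_ U) :=
    IsZariskiLocalAtTarget.restrict (P := @IsClosedImmersion) ‹_› _
  have : IsClosedImmersion (i₂ ∣_ U) :=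
    IsZariskiLocalAtTarget.restrict (P := @IsClosedImmersion) ‹_› _
  refine ⟨U, ?_, fun x hx => ?_⟩
  · let Z : Bool → Scheme.{u} := fun c =>
      cond c (i₁ ⁻¹ᵁ U : Z₁.Opens).toScheme (i₂ ⁻¹ᵁ U : Z₂.Opens).toScheme
    let j : ∀ c, Z c ⟶ U.toScheme := fun c => Bool.rec (i₂ ∣_ U) (i₁ ∣_ U) c
    have : ∀ c, IsClosedImmersion (j c) := fun c => by cases c <;> assumption
    have : ∀ c, IsAffine (Z c) := fun c => by cases c <;> assumption
    refine @isAffine_of_finite_cover U.toScheme Bool inferInstance Z j (by assumption) (by assumption) fun x => ?_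
    rcases hcov x.1 with ⟨z, hz⟩ | ⟨z, hz⟩
    · refine ⟨true, ⟨z, show i₁ z ∈ U from hz ▸ x.2⟩, Subtype.ext ?_⟩
      exact (morphismRestrict_base_coe i₁ U _).trans hz
    · refine ⟨false, ⟨z, show i₂ z ∈ U from hz ▸ x.2⟩, Subtype.ext ?_⟩
      exact (morphismRestrict_base_coe i₂ U _).trans hz
  · rintro (⟨z, hz, e'⟩ | ⟨y, hy, e'⟩)
    · exact hz (hs₁T (show i₁ z ∈ T by rw [e']; exact hx))
    · exact hy (hTV₂' y (show i₂ y ∈ T by rw [e']; exact hx))

/-- An affine open of the reduced structure on `A` containing the given points. -/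
def HasAffine (T : Set X) (A : Closeds X) : Prop :=
  ∃ W : (Scheme.IdealSheafData.vanishingIdeal A).subscheme.Opens,
    IsAffineOpen W ∧ (Scheme.IdealSheafData.vanishingIdeal A).subschemeι ⁻¹' T ⊆ W

lemma range_subschemeι_vanishingIdeal (A : Closeds X) :
    Set.range (Scheme.IdealSheafData.vanishingIdeal A).subschemeι = (A : Set X) := by
  rw [Scheme.IdealSheafData.range_subschemeι]; rfl

lemma HasAffine.sup {T : Set X} (hT : T.Finite) {A B : Closeds X} (hA : HasAffine T A)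
    (hB : HasAffine T B) : HasAffine T (A ⊔ B) := by
  obtain ⟨W₁, hW₁, hT₁⟩ := hA
  obtain ⟨W₂, hW₂, hT₂⟩ := hB
  let j := (Scheme.IdealSheafData.vanishingIdeal (A ⊔ B)).subschemeι
  let i₁ := Scheme.IdealSheafData.inclusion
    (Scheme.IdealSheafData.vanishingIdeal_antimono (le_sup_left : A ≤ A ⊔ B))
  let i₂ := Scheme.IdealSheafData.inclusion
    (Scheme.IdealSheafData.vanishingIdeal_antimono (le_sup_right : B ≤ A ⊔ B))
  have e₁ : i₁ ≫ j = (Scheme.IdealSheafData.vanishingIdeal A).subschemeι :=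
    Scheme.IdealSheafData.inclusion_subschemeι _
  have e₂ : i₂ ≫ j = (Scheme.IdealSheafData.vanishingIdeal B).subschemeι :=
    Scheme.IdealSheafData.inclusion_subschemeι _
  refine exists_affine_of_two i₁ i₂ (fun y => ?_) hW₁ hW₂
    (hT.preimage j.isClosedEmbedding.injective.injOn) ?_ ?_
  · rcases (range_subschemeι_vanishingIdeal (A ⊔ B)).le ⟨y, rfl⟩ with h | h
    · obtain ⟨z, hz⟩ := (range_subschemeι_vanishingIdeal A).ge h
      refine .inl ⟨z, j.isClosedEmbedding.injective ?_⟩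
      rw [← Scheme.Hom.comp_apply, e₁, hz]
    · obtain ⟨z, hz⟩ := (range_subschemeι_vanishingIdeal B).ge h
      refine .inr ⟨z, j.isClosedEmbedding.injective ?_⟩
      rw [← Scheme.Hom.comp_apply, e₂, hz]
  · intro z hz
    refine hT₁ ?_
    show (Scheme.IdealSheafData.vanishingIdeal A).subschemeι z ∈ T
    rw [← e₁]; exact hz
  · intro z hz
    refine hT₂ ?_
    show (Scheme.IdealSheafData.vanishingIdeal B).subschemeι z ∈ T
    rw [← e₂]; exact hz

lemma hasAffine_bot (T : Set X) : HasAffine T (⊥ : Closeds X) := by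
  have : IsEmpty (Scheme.IdealSheafData.vanishingIdeal (⊥ : Closeds X)).subscheme :=
    ⟨fun z => (range_subschemeι_vanishingIdeal (⊥ : Closeds X)).le ⟨z, rfl⟩⟩
  exact ⟨⊤, isAffineOpen_top _, fun z _ => trivial⟩

lemma exists_affineOpen_of_top {T : Set X} (h : HasAffine T ⊤) :
    ∃ U : X.Opens, IsAffineOpen U ∧ T ⊆ U := by
  obtain ⟨W, hW, hTW⟩ := h
  let j := (Scheme.IdealSheafData.vanishingIdeal (⊤ : Closeds X)).subschemeι
  have hj : AlgebraicGeometry.Surjective j :=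
    ⟨fun x => (range_subschemeι_vanishingIdeal ⊤).ge trivial⟩
  let U : X.Opens := ⟨(j '' (W : Set _)ᶜ)ᶜ,
    (j.isClosedEmbedding.isClosedMap _ W.isOpen.isClosed_compl).isOpen_compl⟩
  have hU : j ⁻¹ᵁ U = W := by
    ext z
    exact ⟨fun hz => by_contra fun h => hz ⟨z, h, rfl⟩,
      fun hz ⟨z', hz', e⟩ => hz' (j.isClosedEmbedding.injective e ▸ hz)⟩
  have : IsAffine (j ⁻¹ᵁ U : Scheme.Opens _).toScheme := hU ▸ hW
  have : IsClosedImmersion (j ∣_ U) :=
    IsZariskiLocalAtTarget.restrict (P := @IsClosedImmersion) inferInstance _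
  have : AlgebraicGeometry.Surjective (j ∣_ U) :=
    IsZariskiLocalAtTarget.restrict (P := @AlgebraicGeometry.Surjective) hj _
  refine ⟨U, isAffine_of_surjective (j ∣_ U), fun x hx => ?_⟩
  rintro ⟨z, hz, rfl⟩
  exact hz (hTW hx)

/-- If each irreducible component has an affine open containing the points of `T` on it, then so
does the scheme. -/
theorem exists_affineOpen_of_components (hX : (irreducibleComponents (X : Type u)).Finite)
    {T : Set X} (hT : T.Finite)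
    (h : ∀ (Z : Set X) (hZ : Z ∈ irreducibleComponents (X : Type u)),
      HasAffine T ⟨Z, isClosed_of_mem_irreducibleComponents Z hZ⟩) :
    ∃ U : X.Opens, IsAffineOpen U ∧ T ⊆ U := by
  classical
  have : Fintype (irreducibleComponents (X : Type u)) := hX.fintype
  let A : irreducibleComponents (X : Type u) → Closeds X := fun Z =>
    ⟨Z.1, isClosed_of_mem_irreducibleComponents Z.1 Z.2⟩
  have hs : ∀ s : Finset (irreducibleComponents (X : Type u)), HasAffine T (s.sup A) := by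
    intro s
    induction s using Finset.induction_on with
    | empty => rw [Finset.sup_empty]; exact hasAffine_bot T
    | @insert a s _ ih => rw [Finset.sup_insert]; exact (h a.1 a.2).sup hT ih
  refine exists_affineOpen_of_top ?_
  have htop : Finset.univ.sup A = ⊤ := by
    refine top_le_iff.mp fun x _ => ?_
    exact (Finset.le_sup (f := A) (Finset.mem_univ
      (⟨irreducibleComponent x, irreducibleComponent_mem_irreducibleComponents x⟩ :
        irreducibleComponents (X : Type u)))) mem_irreducibleComponent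
  exact htop ▸ hs Finset.univ

end Groth.Agent.AffThick
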