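import Groth.Agent.AffThick.Nil

/-!
# A scheme covered by finitely many affine closed subschemes is affine
-/

set_option autoImplicit false
set_option linter.unusedSectionVars false
set_option backward.isDefEq.respectTransparency.types false

universe u v

open AlgebraicGeometry CategoryTheory TopologicalSpace Opposite

namespace Groth.Agent.AffThick

variable {X Z₁ Z₂ Z₁₂ : Scheme.{u}}

lemma app_comp_eq {k₁ : Z₁₂ ⟶ Z₁} {i₁ : Z₁ ⟶ X} {k : Z₁₂ ⟶ X} (h : k₁ ≫ i₁ = k) {V : X.Opens}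
    {a : Γ(X, V)} {s : Γ(Z₁, ⊤)} (ha : (i₁.app V).hom a = res le_top s) :
    (k.app V).hom a = res le_top (k₁.appTop.hom s) := by
  subst h
  show (k₁.app _).hom ((i₁.app V).hom a) = _
  rw [ha, app_res]
  rfl

/-- The two pieces of a scheme-theoretic union detect sections. -/
lemma eq_zero_of_pair (i₁ : Z₁ ⟶ X) (i₂ : Z₂ ⟶ X) [IsClosedImmersion i₁] [IsClosedImmersion i₂]
    (hker : i₁.ker ⊓ i₂.ker = ⊥) {W : X.Opens} {a : Γ(X, W)}
    (h₁ : (i₁.app W).hom a = 0) (h₂ : (i₂.app W).hom a = 0) : a = 0 := by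
  refine eq_of_cover (fun V : {V : X.affineOpens // V.1 ≤ W} => V.1.1) (fun V => V.2) ?_ _ _ ?_
  · intro x hx
    obtain ⟨V, hV, hxV, hVW⟩ := Opens.isBasis_iff_nbhd.mp X.isBasis_affineOpens hx
    exact Opens.mem_iSup.mpr ⟨⟨⟨V, hV⟩, hVW⟩, hxV⟩
  · intro V
    rw [map_zero]
    have hm : res V.2 a ∈ (i₁.ker ⊓ i₂.ker).ideal V.1 := by
      rw [Scheme.IdealSheafData.ideal_inf]
      refine ⟨?_, ?_⟩ <;>
      · show res V.2 a ∈ Scheme.IdealSheafData.ideal _ V.1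
        rw [Scheme.Hom.ker_apply]
        show (Scheme.Hom.app _ _).hom _ = 0
        rw [app_res]; simp [h₁, h₂]
    rw [hker] at hm
    exact hm

/-- Gluing sections on the two pieces of a scheme-theoretic union. -/
lemma exists_glue_pair (i₁ : Z₁ ⟶ X) (i₂ : Z₂ ⟶ X) [IsClosedImmersion i₁] [IsClosedImmersion i₂]
    (hker : i₁.ker ⊓ i₂.ker = ⊥) (k₁ : Z₁₂ ⟶ Z₁) (k₂ : Z₁₂ ⟶ Z₂) (k : Z₁₂ ⟶ X)
    [IsClosedImmersion k] (hk₁ : k₁ ≫ i₁ = k) (hk₂ : k₂ ≫ i₂ = k)
    (hk : k.ker = i₁.ker ⊔ i₂.ker) (s₁ : Γ(Z₁, ⊤)) (s₂ : Γ(Z₂, ⊤))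
    (h : k₁.appTop.hom s₁ = k₂.appTop.hom s₂) :
    ∃ S : Γ(X, ⊤), i₁.appTop.hom S = s₁ ∧ i₂.appTop.hom S = s₂ := by
  have hex : ∀ V : X.affineOpens, ∃ a : Γ(X, V.1),
      (i₁.app V.1).hom a = res le_top s₁ ∧ (i₂.app V.1).hom a = res le_top s₂ := by
    intro V
    obtain ⟨a, ha⟩ := Scheme.Hom.app_surjective i₁ V.1 V.2 (res le_top s₁)
    obtain ⟨b, hb⟩ := Scheme.Hom.app_surjective i₂ V.1 V.2 (res le_top s₂)
    have hd : a - b ∈ k.ker.ideal V := by
      rw [Scheme.Hom.ker_apply]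
      show (k.app V.1).hom (a - b) = 0
      rw [map_sub, app_comp_eq hk₁ ha, app_comp_eq hk₂ hb, h]
      exact sub_self _
    rw [hk, Scheme.IdealSheafData.ideal_sup] at hd
    obtain ⟨α, hα, β, hβ, hαβ⟩ := Submodule.mem_sup.mp hd
    rw [Scheme.Hom.ker_apply, RingHom.mem_ker] at hα hβ
    refine ⟨a - α, ?_, ?_⟩
    · rw [map_sub, hα, sub_zero]; exact ha
    · rw [show a - α = b + β by linear_combination -hαβ, map_add, hβ, add_zero]; exact hb
  choose a ha₁ ha₂ using hex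
  obtain ⟨S, hS⟩ := exists_glue (fun V : X.affineOpens => V.1) (iSup_affineOpens_eq_top X) a
    fun V W => by
      refine sub_eq_zero.mp (eq_zero_of_pair i₁ i₂ hker ?_ ?_) <;>
        simp [app_res, ha₁, ha₂, res_res]
  refine ⟨S, eq_of_cover (fun V : X.affineOpens => i₁ ⁻¹ᵁ V.1) (fun V => le_top) ?_ _ _ fun V => ?_,
    eq_of_cover (fun V : X.affineOpens => i₂ ⁻¹ᵁ V.1) (fun V => le_top) ?_ _ _ fun V => ?_⟩
  · rw [← Scheme.Hom.preimage_iSup, iSup_affineOpens_eq_top, Scheme.Hom.preimage_top]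
  · rw [← ha₁ V, ← hS V, app_res]; rfl
  · rw [← Scheme.Hom.preimage_iSup, iSup_affineOpens_eq_top, Scheme.Hom.preimage_top]
  · rw [← ha₂ V, ← hS V, app_res]; rfl

/-- The ideal of sections whose standard open lies in a given open. -/
def idealLE (Y : Scheme.{u}) (V : Y.Opens) : Ideal Γ(Y, ⊤) where
  carrier := {p | Y.basicOpen p ≤ V}
  add_mem' {p q} hp hq := (Y.basicOpen_add_le p q).trans (sup_le hp hq)
  zero_mem' := by simp [Scheme.basicOpen_zero]
  smul_mem' c p hp := by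
    show Y.basicOpen (c * p) ≤ V
    rw [Scheme.basicOpen_mul]
    exact inf_le_right.trans hp

lemma exists_basicOpen_idealLE {Y : Scheme.{u}} [IsAffine Y] {V : Y.Opens} {y : Y} (hy : y ∈ V) :
    ∃ p ∈ idealLE Y V, y ∈ Y.basicOpen p := by
  obtain ⟨p, hp, hyp⟩ := (isAffineOpen_top Y).exists_basicOpen_le ⟨y, hy⟩ (by simp)
  exact ⟨p, hp, hyp⟩

/-- A standard open inside the union of those of an ideal: the section is in the radical. -/
lemma mem_radical_of_basicOpen {Y : Scheme.{u}} [IsAffine Y] {I : Ideal Γ(Y, ⊤)} {r : Γ(Y, ⊤)}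
    (h : ∀ y ∈ Y.basicOpen r, ∃ p ∈ I, y ∈ Y.basicOpen p) : r ∈ I.radical := by
  rw [Ideal.radical_eq_sInf, Ideal.mem_sInf]
  rintro q ⟨hIq, hq⟩
  by_contra hr
  let x : Spec Γ(Y, ⊤) := (⟨q, hq⟩ : PrimeSpectrum Γ(Y, ⊤))
  have hY := isAffineOpen_top Y
  have hpre : ∀ g : Γ(Y, ⊤), hY.fromSpec x ∈ Y.basicOpen g ↔ g ∉ q := by
    intro g
    show x ∈ hY.fromSpec ⁻¹ᵁ Y.basicOpen g ↔ _
    rw [hY.fromSpec_preimage_basicOpen]
    rfl
  obtain ⟨p, hp, hyp⟩ := h _ ((hpre r).2 hr)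
  exact (hpre p).1 hyp (hIq hp)

/-- The basic step: a section on `X`, non-zero at a given point of the first piece, with standard
open inside a given open. -/
lemma exists_basicOpen_pair (i₁ : Z₁ ⟶ X) (i₂ : Z₂ ⟶ X) [IsClosedImmersion i₁]
    [IsClosedImmersion i₂] [IsAffine Z₁] [IsAffine Z₂] (hker : i₁.ker ⊓ i₂.ker = ⊥)
    (hcov : ∀ x : X, x ∈ Set.range i₁ ∨ x ∈ Set.range i₂) {U : X.Opens} {z : Z₁} (hz : i₁ z ∈ U) :
    ∃ S : Γ(X, ⊤), X.basicOpen S ≤ U ∧ i₁ z ∈ X.basicOpen S := by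
  let k := (i₁.ker ⊔ i₂.ker).subschemeι
  have hk : k.ker = i₁.ker ⊔ i₂.ker := Scheme.IdealSheafData.ker_subschemeι _
  let k₁ := IsClosedImmersion.lift i₁ k (le_sup_left.trans hk.ge)
  let k₂ := IsClosedImmersion.lift i₂ k (le_sup_right.trans hk.ge)
  have hk₁ : k₁ ≫ i₁ = k := IsClosedImmersion.lift_fac _ _ _
  have hk₂ : k₂ ≫ i₂ = k := IsClosedImmersion.lift_fac _ _ _
  have : IsClosedImmersion (k₂ ≫ i₂) := hk₂ ▸ inferInstance
  have : IsClosedImmersion k₂ := IsClosedImmersion.of_comp_isClosedImmersion k₂ i₂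
  have : IsAffine (i₁.ker ⊔ i₂.ker).subscheme := isAffine_of_isAffineHom k₂
  obtain ⟨s₁, hs₁, hzs⟩ := exists_basicOpen_idealLE (V := i₁ ⁻¹ᵁ U) hz
  have hr : k₁.appTop.hom s₁ ∈
      ((idealLE Z₂ (i₂ ⁻¹ᵁ U)).map k₂.appTop.hom).radical := by
    refine mem_radical_of_basicOpen fun y hy => ?_
    replace hy : k₁ y ∈ Z₁.basicOpen s₁ := (Scheme.preimage_basicOpen_top k₁ s₁).ge hy
    have hU : k₂ y ∈ i₂ ⁻¹ᵁ U := by
      have h1 : i₁ (k₁ y) ∈ U := hs₁ hy
      have h2 : i₂ (k₂ y) = i₁ (k₁ y) := by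
        rw [← Scheme.Hom.comp_apply, ← Scheme.Hom.comp_apply, hk₁, hk₂]
      show i₂ (k₂ y) ∈ U
      rw [h2]; exact h1
    obtain ⟨p, hp, hyp⟩ := exists_basicOpen_idealLE hU
    exact ⟨_, Ideal.mem_map_of_mem _ hp, (Scheme.preimage_basicOpen_top k₂ p).le hyp⟩
  obtain ⟨n, hn⟩ := hr
  obtain ⟨p, hp, hpn⟩ := (Ideal.mem_map_iff_of_surjective _
    (Scheme.Hom.app_surjective k₂ ⊤ (isAffineOpen_top _))).mp (Ideal.mul_mem_right (k₁.appTop.hom s₁) _ hn)
  rw [← pow_succ, ← map_pow] at hpn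
  obtain ⟨S, hS₁, hS₂⟩ := exists_glue_pair i₁ i₂ hker k₁ k₂ k hk₁ hk₂ hk _ p hpn.symm
  have hpow : Z₁.basicOpen (s₁ ^ (n + 1)) = Z₁.basicOpen s₁ := Z₁.basicOpen_pow _ n.succ_pos
  have e₁ : i₁ ⁻¹ᵁ X.basicOpen S = Z₁.basicOpen s₁ := by
    rw [Scheme.preimage_basicOpen_top i₁, show i₁.appTop.hom S = s₁ ^ (n + 1) from hS₁, ← hpow]
  have e₂ : i₂ ⁻¹ᵁ X.basicOpen S = Z₂.basicOpen p := by
    rw [Scheme.preimage_basicOpen_top i₂, show i₂.appTop.hom S = p from hS₂]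
  refine ⟨S, fun x hx => ?_, e₁.ge hzs⟩
  rcases hcov x with ⟨y, rfl⟩ | ⟨y, rfl⟩
  · exact hs₁ (e₁.le hx)
  · exact hp (e₂.le hx)

/-- Sections on the first piece extend to the union. -/
lemma exists_extend (i₁ : Z₁ ⟶ X) (i₂ : Z₂ ⟶ X) [IsClosedImmersion i₁]
    [IsClosedImmersion i₂] [IsAffine Z₂] (hker : i₁.ker ⊓ i₂.ker = ⊥) (s₁ : Γ(Z₁, ⊤)) :
    ∃ S : Γ(X, ⊤), i₁.appTop.hom S = s₁ := by
  let k := (i₁.ker ⊔ i₂.ker).subschemeι
  have hk : k.ker = i₁.ker ⊔ i₂.ker := Scheme.IdealSheafData.ker_subschemeι _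
  let k₁ := IsClosedImmersion.lift i₁ k (le_sup_left.trans hk.ge)
  let k₂ := IsClosedImmersion.lift i₂ k (le_sup_right.trans hk.ge)
  have hk₂ : k₂ ≫ i₂ = k := IsClosedImmersion.lift_fac _ _ _
  have : IsClosedImmersion (k₂ ≫ i₂) := hk₂ ▸ inferInstance
  have : IsClosedImmersion k₂ := IsClosedImmersion.of_comp_isClosedImmersion k₂ i₂
  obtain ⟨p, hp⟩ := Scheme.Hom.app_surjective k₂ ⊤ (isAffineOpen_top _) (k₁.appTop.hom s₁)
  obtain ⟨S, hS, -⟩ := exists_glue_pair i₁ i₂ hker k₁ k₂ k (IsClosedImmersion.lift_fac _ _ _)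
    hk₂ hk s₁ p hp.symm
  exact ⟨S, hS⟩

/-- An ideal whose standard opens meet every point of an affine piece has unit image there. -/
lemma map_eq_top_of_cover (i₁ : Z₁ ⟶ X) [IsAffine Z₁] (A : Ideal Γ(X, ⊤))
    (h : ∀ z : Z₁, ∃ S ∈ A, i₁ z ∈ X.basicOpen S) : A.map i₁.appTop.hom = ⊤ := by
  rw [Ideal.eq_top_iff_one]
  have h1 : (1 : Γ(Z₁, ⊤)) ∈ (A.map i₁.appTop.hom).radical := by
    refine mem_radical_of_basicOpen fun z _ => ?_
    obtain ⟨S, hS, hz⟩ := h z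
    exact ⟨_, Ideal.mem_map_of_mem _ hS, (Scheme.preimage_basicOpen_top i₁ S).le hz⟩
  obtain ⟨n, hn⟩ := h1
  rwa [one_pow] at hn

/-- A scheme which is the scheme-theoretic union of two affine closed subschemes is affine. -/
theorem isAffine_of_pair (i₁ : Z₁ ⟶ X) (i₂ : Z₂ ⟶ X) [IsClosedImmersion i₁]
    [IsClosedImmersion i₂] [IsAffine Z₁] [IsAffine Z₂] (hker : i₁.ker ⊓ i₂.ker = ⊥)
    (hcov : ∀ x : X, x ∈ Set.range i₁ ∨ x ∈ Set.range i₂) : IsAffine X := by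
  let G : Set Γ(X, ⊤) := {S | IsAffineOpen (X.basicOpen S)}
  have hker' : i₂.ker ⊓ i₁.ker = ⊥ := inf_comm i₁.ker i₂.ker ▸ hker
  have hpt : ∀ x : X, ∃ S ∈ G, x ∈ X.basicOpen S := by
    intro x
    obtain ⟨U, hU, hxU, -⟩ :=
      Opens.isBasis_iff_nbhd.mp X.isBasis_affineOpens (show x ∈ (⊤ : X.Opens) from trivial)
    obtain ⟨S, hSU, hxS⟩ : ∃ S : Γ(X, ⊤), X.basicOpen S ≤ U ∧ x ∈ X.basicOpen S := by
      rcases hcov x with ⟨z, rfl⟩ | ⟨z, rfl⟩
      · exact exists_basicOpen_pair i₁ i₂ hker hcov hxU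
      · exact exists_basicOpen_pair i₂ i₁ hker' (fun y => (hcov y).symm) hxU
    refine ⟨S, ?_, hxS⟩
    show IsAffineOpen (X.basicOpen S)
    rw [show X.basicOpen S = X.basicOpen (res (le_top : U ≤ ⊤) S) by
      rw [basicOpen_res, inf_eq_right.mpr hSU]]
    exact hU.basicOpen _
  refine isAffine_of_isAffineOpen_basicOpen G ?_ fun S hS => hS
  have hone : ∀ {Z : Scheme.{u}} (i : Z ⟶ X) [IsAffine Z],
      Function.Surjective i.appTop.hom → ∃ b ∈ Ideal.span G, i.appTop.hom b = 1 := by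
    intro Z i _ hsurj
    have h := map_eq_top_of_cover i (Ideal.span G) fun z =>
      (hpt (i z)).imp fun S hS => ⟨Ideal.subset_span hS.1, hS.2⟩
    exact (Ideal.mem_map_iff_of_surjective _ hsurj).mp (h ▸ Submodule.mem_top)
  obtain ⟨b, hb, hb1⟩ := hone i₁ fun s => exists_extend i₁ i₂ hker s
  obtain ⟨b', hb', hb1'⟩ := hone i₂ fun s => exists_extend i₂ i₁ hker' s
  rw [Ideal.eq_top_iff_one]
  have h0 : (1 - b) * (1 - b') = 0 := by
    refine eq_zero_of_pair i₁ i₂ hker ?_ ?_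
    · show i₁.appTop.hom ((1 - b) * (1 - b')) = 0
      rw [map_mul, map_sub, map_one, hb1, sub_self, zero_mul]
    · show i₂.appTop.hom ((1 - b) * (1 - b')) = 0
      rw [map_mul, map_sub i₂.appTop.hom 1 b', map_one, hb1', sub_self, mul_zero]
  have h1 : (1 : Γ(X, ⊤)) = b + b' - b * b' := by linear_combination h0
  rw [h1]
  exact sub_mem (add_mem hb hb') (Ideal.mul_mem_right _ _ hb)

/-- The subscheme of an intersection of two ideals with affine subschemes is affine. -/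
theorem isAffine_subscheme_inf (I J : X.IdealSheafData) [IsAffine I.subscheme]
    [IsAffine J.subscheme] : IsAffine (I ⊓ J).subscheme := by
  let j := (I ⊓ J).subschemeι
  let a := Scheme.IdealSheafData.inclusion (inf_le_left : I ⊓ J ≤ I)
  let b := Scheme.IdealSheafData.inclusion (inf_le_right : I ⊓ J ≤ J)
  have ha : a ≫ j = I.subschemeι := Scheme.IdealSheafData.inclusion_subschemeι _
  have hb : b ≫ j = J.subschemeι := Scheme.IdealSheafData.inclusion_subschemeι _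
  refine isAffine_of_pair a b ?_ ?_
  · refine Scheme.IdealSheafData.ext_of_iSup_eq_top
      (fun V : X.affineOpens => ⟨j ⁻¹ᵁ V.1, V.2.preimage j⟩) ?_ fun V => ?_
    · rw [← Scheme.Hom.preimage_iSup, iSup_affineOpens_eq_top, Scheme.Hom.preimage_top]
    · have hφ := Scheme.Hom.app_surjective j V.1 V.2
      have hc : ∀ {Z : Scheme.{u}} (c : Z ⟶ (I ⊓ J).subscheme) [IsClosedImmersion c],
          (c.ker.ideal ⟨j ⁻¹ᵁ V.1, V.2.preimage j⟩).comap (j.app V.1).hom =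
            (c ≫ j).ker.ideal V := by
        intro Z c _
        simp only [Scheme.Hom.ker_apply]
        rfl
      apply Ideal.comap_injective_of_surjective _ hφ
      simp only [Scheme.IdealSheafData.ideal_inf, Pi.inf_apply, Ideal.comap_inf, hc, ha, hb,
        Scheme.IdealSheafData.ker_subschemeι, Scheme.IdealSheafData.ideal_bot, Pi.bot_apply]
      exact (Scheme.IdealSheafData.ker_subschemeι_app (I ⊓ J) V).symm
  · intro y
    have hy : j y ∈ (I * J).support := Scheme.IdealSheafData.support_antitone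
      (show I * J ≤ I ⊓ J from fun V => Ideal.mul_le_inf)
      ((Scheme.IdealSheafData.range_subschemeι _).le ⟨y, rfl⟩)
    rw [Scheme.IdealSheafData.support_mul] at hy
    rcases hy with h | h
    · obtain ⟨z, hz⟩ := (Scheme.IdealSheafData.range_subschemeι I).ge h
      refine .inl ⟨z, j.isClosedEmbedding.injective ?_⟩
      rw [← Scheme.Hom.comp_apply, ha, hz]
    · obtain ⟨z, hz⟩ := (Scheme.IdealSheafData.range_subschemeι J).ge h
      refine .inr ⟨z, j.isClosedEmbedding.injective ?_⟩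
      rw [← Scheme.Hom.comp_apply, hb, hz]

/-- A scheme covered by finitely many affine closed subschemes is affine. -/
theorem isAffine_of_finite_cover {κ : Type v} [Finite κ] (Z : κ → Scheme.{u}) (ι : ∀ k, Z k ⟶ X)
    [∀ k, IsClosedImmersion (ι k)] [∀ k, IsAffine (Z k)]
    (hcov : ∀ x : X, ∃ k, x ∈ Set.range (ι k)) : IsAffine X := by
  classical
  cases nonempty_fintype κ
  have hall : ∀ s : Finset κ, IsAffine (s.inf fun k => (ι k).ker).subscheme := by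
    intro s
    induction s using Finset.induction_on with
    | empty => rw [Finset.inf_empty]; infer_instance
    | @insert a s _ ih =>
      rw [Finset.inf_insert]
      have : IsAffine ((ι a).ker).subscheme := IsAffine.of_isIso (inv (ι a).toImage)
      exact isAffine_subscheme_inf _ _
  have := hall Finset.univ
  let j := (Finset.univ.inf fun k => (ι k).ker).subschemeι
  have : Surjective j := by
    constructor
    intro x
    obtain ⟨k, hk⟩ := hcov x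
    have h : x ∈ (ι k).ker.support := by
      rw [← SetLike.mem_coe, ← Scheme.IdealSheafData.range_subschemeι]
      obtain ⟨z, rfl⟩ := hk
      exact ⟨(ι k).toImage z, by rw [← Scheme.Hom.comp_apply, Scheme.Hom.toImage_imageι]⟩
    exact (Scheme.IdealSheafData.range_subschemeι _).ge
      (Scheme.IdealSheafData.support_antitone (Finset.inf_le (Finset.mem_univ k)) h)
  exact isAffine_of_surjective j

end Groth.Agent.AffThick
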